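import Groth.Agent.Fano.K123.ConA
import Groth.Agent.Fano.K745.StDef

/-!
# Families of maps from conics: pulling back data, morphisms from data

Nodes P1, P2 of the plan for conics on a general hypersurface (stack part):
* `exists_pull`: a datum pulls back along a morphism of families;
* `IsPull.comp`, `IsPull.id`;
* `existsUnique_hom`: a morphism of bases compatible with the pairs `(c, φ)` lifts uniquely to a morphism of families
  compatible with the data.
-/

set_option autoImplicit false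

universe u

open CategoryTheory CategoryTheory.Limits AlgebraicGeometry

namespace K837.StPull

open K390.PnSec Groth.Agent.Fdesc.LocGen Groth.Agent.Dix.ProjProper K188.LineDef K745.ConDef K745.StDef
open W4swstmapratcurves K123.ConA

section Pb

variable {X Y W : Scheme.{u}} {m : ℕ} {L : X.Modules} {M : Y.Modules} {N : W.Modules} {x : Fin m → Γ(L, ⊤)}
  {y : Fin m → Γ(M, ⊤)} {z : Fin m → Γ(N, ⊤)}

/-- The morphism `r` pulls the sections `x` back to the sections `y`. -/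
def Pb (r : Y ⟶ X) (x : Fin m → Γ(L, ⊤)) (y : Fin m → Γ(M, ⊤)) : Prop :=
  ∃ τ : (Scheme.Modules.pullback r).obj L ≅ M, ∀ i, τ.hom.app ⊤ (pullTop r (x i)) = y i

theorem pullTop_comp (t : W ⟶ Y) (r : Y ⟶ X) (s : Γ(L, ⊤)) :
    ((Scheme.Modules.pullbackComp t r).inv.app L).app ⊤ (pullTop (t ≫ r) s) = pullTop t (pullTop r s) :=
  pullSec_comp t r s

theorem pullTop_comp' (t : W ⟶ Y) (r : Y ⟶ X) (s : Γ(L, ⊤)) :
    ((Scheme.Modules.pullbackComp t r).hom.app L).app ⊤ (pullTop t (pullTop r s)) = pullTop (t ≫ r) s := by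
  rw [← pullTop_comp]
  exact congr(($((Scheme.Modules.pullbackComp t r).inv_hom_id_app L).app ⊤) (pullTop (t ≫ r) s))

theorem pullTop_id (t : Γ(L, ⊤)) : ((Scheme.Modules.pullbackId X).hom.app L).app ⊤ (pullTop (𝟙 X) t) = t := by
  have h := unit_conjugateEquiv (Adjunction.id (C := X.Modules))
    (Scheme.Modules.pullbackPushforwardAdjunction (𝟙 X)) (Scheme.Modules.pullbackId X).hom L
  rw [Scheme.Modules.conjugateEquiv_pullbackId_hom] at h
  exact congr(($(h).app ⊤) t).symm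

theorem Pb.comp {t : W ⟶ Y} {r : Y ⟶ X} (h : Pb t y z) (h' : Pb r x y) : Pb (t ≫ r) x z := by
  obtain ⟨τ, hτ⟩ := h
  obtain ⟨τ', hτ'⟩ := h'
  refine ⟨((Scheme.Modules.pullbackComp t r).symm.app L) ≪≫ (Scheme.Modules.pullback t).mapIso τ' ≪≫ τ,
    fun i => ?_⟩
  have h2 : ((Scheme.Modules.pullback t).map τ'.hom).app ⊤ (pullTop t (pullTop r (x i))) =
      pullTop t (τ'.hom.app ⊤ (pullTop r (x i))) := pullback_map_pullSec t τ'.hom (U := ⊤) _
  have h3 : (((Scheme.Modules.pullbackComp t r).symm.app L) ≪≫ (Scheme.Modules.pullback t).mapIso τ' ≪≫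
      τ).hom.app ⊤ (pullTop (t ≫ r) (x i)) = τ.hom.app ⊤ (((Scheme.Modules.pullback t).map τ'.hom).app ⊤
        (((Scheme.Modules.pullbackComp t r).inv.app L).app ⊤ (pullTop (t ≫ r) (x i)))) := rfl
  rw [h3, pullTop_comp, h2, hτ' i, hτ i]

theorem Pb.id (x : Fin m → Γ(L, ⊤)) : Pb (𝟙 X) x x :=
  ⟨(Scheme.Modules.pullbackId X).app L, fun i => pullTop_id (x i)⟩

theorem Pb.refl (r : Y ⟶ X) (x : Fin m → Γ(L, ⊤)) : Pb r x (fun i => pullTop r (x i)) :=
  ⟨Iso.refl _, fun _ => rfl⟩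

theorem Pb.of_comp {t : W ⟶ Y} {r : Y ⟶ X} (h : Pb (t ≫ r) x z) : Pb t (fun i => pullTop r (x i)) z := by
  obtain ⟨τ, hτ⟩ := h
  refine ⟨(Scheme.Modules.pullbackComp t r).app L ≪≫ τ, fun i => ?_⟩
  have h3 : ((Scheme.Modules.pullbackComp t r).app L ≪≫ τ).hom.app ⊤ (pullTop t (pullTop r (x i))) =
      τ.hom.app ⊤ (((Scheme.Modules.pullbackComp t r).hom.app L).app ⊤ (pullTop t (pullTop r (x i)))) := rfl
  rw [h3, pullTop_comp', hτ i]

end Pb

section Con

variable {T T' C C' Y : Scheme.{u}} {c : Fin 5 → Γ(T, ⊤)} {f : C ⟶ T} {L : C.Modules} {x : Fin 3 → Γ(L, ⊤)}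

theorem isInvertible (h : IsCon c f L x) : PicF.IsInvertible L := by
  obtain ⟨ι, rfl, ⟨τ, -⟩, hι⟩ := h
  have h1 := isInvertible_pullback (ι ≫ toZ 2 T) (isInvertible_O1 2 Z.{u})
  rw [isInvertible_iff] at h1 ⊢
  intro p
  obtain ⟨U, s, hx, hs⟩ := h1 p
  exact ⟨U, _, hx, hs.app τ.hom⟩

theorem gens (h : IsCon c f L x) : Gens x := by
  obtain ⟨ι, rfl, hL, -⟩ := h
  exact hL.iSup_genLocus

theorem van_qf (h : IsCon c f L x) : Van f x (qf c) := by
  obtain ⟨ι, rfl, hL, hι⟩ := h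
  exact (van_iff_of_givenBy (givenBy_crd ι rfl) hL _ _).1 ((hι.exists_iff ι).1 ⟨𝟙 _, Category.id_comp _⟩)

/-- Morphisms to a conic which agree on the base and on the coordinates are equal. -/
theorem hom_ext_isCon (h : IsCon c f L x) {r r' : Y ⟶ C} (hr : r ≫ f = r' ≫ f) {M : Y.Modules}
    {y : Fin 3 → Γ(M, ⊤)} (h1 : Pb r x y) (h2 : Pb r' x y) : r = r' := by
  obtain ⟨ι, rfl, hL, hι⟩ := h
  have := hι.isClosedImmersion
  obtain ⟨τ, hτ⟩ := h1
  obtain ⟨τ', hτ'⟩ := h2
  rw [← cancel_mono ι]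
  refine hom_ext_over ?_ ?_
  · have h3 := (hL.comp r).of_iso τ
    have h4 := (hL.comp r').of_iso τ'
    rw [funext hτ] at h3
    rw [funext hτ'] at h4
    rw [Category.assoc, Category.assoc]
    exact h3.unique' h4
  · rw [Category.assoc, Category.assoc]
    exact hr

theorem van_comp {b : T' ⟶ T} {f' : C' ⟶ T'} {L' : C'.Modules} {x' : Fin 3 → Γ(L', ⊤)}
    (h' : IsCon (fun j => b.appTop (c j)) f' L' x') : Van (f' ≫ b) x' (qf c) := by
  rw [K123.Van.van_comp_iff, map_qf]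
  exact van_qf h'

/-- A morphism of conics over a morphism of bases is cartesian. -/
theorem isPullback_of_isCon (h : IsCon c f L x) {b : T' ⟶ T} {f' : C' ⟶ T'} {L' : C'.Modules}
    {x' : Fin 3 → Γ(L', ⊤)} (h' : IsCon (fun j => b.appTop (c j)) f' L' x') {r : C' ⟶ C}
    (hr : r ≫ f = f' ≫ b) (hx : Pb r x x') : IsPullback r f' f b := by
  have hP : IsPullback (pullback.fst f b) (pullback.snd f b) f b := IsPullback.of_hasPullback f b
  have hC := isCon_pullback h hP
  let s : C' ⟶ pullback f b := hP.lift r f' hr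
  have hs1 : s ≫ pullback.fst f b = r := hP.lift_fst _ _ _
  have hs2 : s ≫ pullback.snd f b = f' := hP.lift_snd _ _ _
  have hs : Pb s (fun j => pullTop (pullback.fst f b) (x j)) x' := by
    refine Pb.of_comp ?_
    rw [hs1]
    exact hx
  obtain ⟨t, ⟨ht, hx'⟩, -⟩ := K123.ConA.existsUnique_hom h' (pullback.snd f b) _ (isInvertible hC) _ (gens hC)
    (van_qf hC)
  have h1 : s ≫ t = 𝟙 C' := by
    refine hom_ext_isCon h' ?_ (Pb.comp hs hx') (Pb.id x')
    rw [Category.assoc, ht, hs2, Category.id_comp]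
  have h2 : t ≫ s = 𝟙 _ := by
    refine hom_ext_isCon hC ?_ (Pb.comp hx' hs) (Pb.id _)
    rw [Category.assoc, hs2, ht, Category.id_comp]
  refine hP.of_iso ⟨t, s, h2, h1⟩ (Iso.refl _) (Iso.refl _) (Iso.refl _) ?_ ?_ ?_ ?_
  · rw [Iso.refl_hom, Category.comp_id, ← hs1]
    change _ = t ≫ s ≫ _
    rw [← Category.assoc, h2, Category.id_comp]
  · rw [Iso.refl_hom, Category.comp_id]
    exact ht.symm
  · rw [Iso.refl_hom, Iso.refl_hom, Category.comp_id, Category.id_comp]
  · rw [Iso.refl_hom, Iso.refl_hom, Category.comp_id, Category.id_comp]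

variable {n : ℕ}

theorem pullTop_msec {f' : C' ⟶ T'} {t : C' ⟶ C} {b : T' ⟶ T} (hw : t ≫ f = f' ≫ b) (x : Fin 3 → Γ(L, ⊤))
    (φ : Fin (n + 1) → Fin 3 → Γ(T, ⊤)) (l : Fin (n + 1)) :
    pullTop t (msec f x φ l) = msec f' (fun i => pullTop t (x i)) (fun l i => b.appTop (φ l i)) l := by
  unfold msec
  rw [pullTop_sum_smul]
  refine Finset.sum_congr rfl fun i _ => ?_
  have h1 : t.appTop (f.appTop (φ l i)) = f'.appTop (b.appTop (φ l i)) := by
    have h2 := congr(($(congrArg Scheme.Hom.appTop hw)) (φ l i))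
    rw [Scheme.Hom.comp_appTop, Scheme.Hom.comp_appTop] at h2
    exact h2
  rw [h1]

theorem app_msec {L' : C.Modules} (τ : L ⟶ L') (x : Fin 3 → Γ(L, ⊤)) (φ : Fin (n + 1) → Fin 3 → Γ(T, ⊤))
    (l : Fin (n + 1)) : τ.app ⊤ (msec f x φ l) = msec f (fun i => τ.app ⊤ (x i)) φ l := by
  unfold msec
  rw [app_sum_smul]

/-- Pulling back a morphism to projective space given by `φ`. -/
theorem givenBy_msec_comp {R : Type u} [CommRing R] {f' : C' ⟶ T'} {t : C' ⟶ C} {b : T' ⟶ T}
    (hw : t ≫ f = f' ≫ b) {φ : Fin (n + 1) → Fin 3 → Γ(T, ⊤)} {μ : C ⟶ CohB1.ProjSpace n R}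
    (h : GivenBy μ L (msec f x φ)) {L' : C'.Modules} {x' : Fin 3 → Γ(L', ⊤)} (hx : Pb t x x') :
    GivenBy (t ≫ μ) L' (msec f' x' (fun l i => b.appTop (φ l i))) := by
  obtain ⟨τ, hτ⟩ := hx
  have h1 := (h.comp t).of_iso τ
  have h2 : (fun l => τ.hom.app ⊤ (pullTop t (msec f x φ l))) = msec f' x' (fun l i => b.appTop (φ l i)) := by
    funext l
    rw [pullTop_msec hw, app_msec]
    simp only [hτ]
  rw [h2] at h1
  exact h1

end Con

variable {k : Type u} [Field k] {n d : ℕ} {G : LefPen.Form n k d}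

/-- **Node P1**: a datum pulls back along a morphism of families. -/
theorem exists_pull {A A' : Fam G} (h : A ⟶ A') (D' : Datum A') : ∃ D : Datum A, IsPull D D' h := by
  refine ⟨⟨fun i => pb h.hom.base.left (D'.c i), fun l i => pb h.hom.base.left (D'.φ l i),
    (Scheme.Modules.pullback h.hom.top).obj D'.L, fun i => pullTop h.hom.top (D'.x i),
    isCon_pullback D'.isCon h.hom.cart, ?_⟩, ⟨fun _ => rfl, fun _ _ => rfl, Iso.refl _, fun _ => rfl⟩⟩
  have h1 := givenBy_msec_comp h.hom.cart.w D'.givenBy (Pb.refl h.hom.top D'.x)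
  rw [← Category.assoc, h.w_map] at h1
  exact h1

theorem IsPull.comp {A A' A'' : Fam G} {D : Datum A} {D' : Datum A'} {D'' : Datum A''} {h : A ⟶ A'} {h' : A' ⟶ A''}
    (H : IsPull D D' h) (H' : IsPull D' D'' h') : IsPull D D'' (h ≫ h') where
  c i := by
    rw [H.c, H'.c]
    change _ = (h.hom.base.left ≫ h'.hom.base.left).appTop _
    rw [Scheme.Hom.comp_appTop]
    rfl
  φ l i := by
    rw [H.φ, H'.φ]
    change _ = (h.hom.base.left ≫ h'.hom.base.left).appTop _
    rw [Scheme.Hom.comp_appTop]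
    rfl
  x := Pb.comp (t := h.hom.top) (r := h'.hom.top) H.x H'.x

theorem IsPull.id {A : Fam G} (D : Datum A) : IsPull D D (𝟙 A) where
  c i := by
    change _ = (𝟙 A.base.left : A.base.left ⟶ A.base.left).appTop _
    rw [Scheme.Hom.id_appTop]
    rfl
  φ l i := by
    change _ = (𝟙 A.base.left : A.base.left ⟶ A.base.left).appTop _
    rw [Scheme.Hom.id_appTop]
    rfl
  x := Pb.id D.x

/-- **Node P2**: a morphism of bases compatible with `(c, φ)` lifts uniquely to a morphism of families compatible with the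
data. -/
theorem existsUnique_hom {A A' : Fam G} (D : Datum A) (D' : Datum A') (b : A.base ⟶ A'.base)
    (hc : ∀ i, D.c i = pb b.left (D'.c i)) (hφ : ∀ l i, D.φ l i = pb b.left (D'.φ l i)) :
    ∃! h : A ⟶ A', h.hom.base = b ∧ IsPull D D' h := by
  have hC : IsCon (fun j => b.left.appTop (D'.c j)) A.f D.L D.x := by
    have h1 := D.isCon
    rw [funext hc] at h1
    exact h1
  have hg : GivenBy (A.map ≫ (LefPen.hypIdeal G).subschemeι) D.L
      (msec A.f D.x (fun l i => b.left.appTop (D'.φ l i))) := by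
    have h1 := D.givenBy
    rw [show D.φ = fun l i => b.left.appTop (D'.φ l i) from funext fun l => funext fun i => hφ l i] at h1
    exact h1
  obtain ⟨r, ⟨hr, hx⟩, -⟩ := K123.ConA.existsUnique_hom D'.isCon (A.f ≫ b.left) D.L (isInvertible D.isCon) D.x
    (gens D.isCon) (van_comp hC)
  have hcart := isPullback_of_isCon D'.isCon hC hr hx
  have hmap : r ≫ A'.map = A.map := by
    rw [← cancel_mono (LefPen.hypIdeal G).subschemeι]
    have h1 := givenBy_msec_comp hr D'.givenBy hx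
    rw [Category.assoc]
    refine h1.unique hg ?_
    have h2 : A'.map ≫ (LefPen.hypIdeal G).subschemeι ≫ CohB1.ProjSpace.toSpec n k = A'.f ≫ A'.base.hom :=
      A'.map_over
    have h3 : A.map ≫ (LefPen.hypIdeal G).subschemeι ≫ CohB1.ProjSpace.toSpec n k = A.f ≫ A.base.hom :=
      A.map_over
    rw [Category.assoc, Category.assoc, Category.assoc, h2, h3, ← Category.assoc, hr, Category.assoc, Over.w b]
  refine ⟨⟨⟨b, r, hcart, fun i => i.elim0⟩, hmap⟩, ⟨rfl, ⟨hc, hφ, hx⟩⟩, ?_⟩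
  rintro h' ⟨rfl, H⟩
  refine StMap.MapFamObj.hom_ext (CurvSt.PtFamObj.hom_ext rfl ?_)
  exact hom_ext_isCon D'.isCon (h'.hom.cart.w.trans hr.symm) H.x hx

end K837.StPull
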